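import Mathlib

/-!
# S4970: involutions and 2-groups (helper137)

* `four_dvd_of_three`, `four_dvd_of_four`: the number of solutions of `z² = 1` is divisible by `4`;
* `exists_pair`: then a `2`-group fixes a pair `{z, s z}`.
-/

set_option autoImplicit false

namespace Cfsg.Agent.H137.FR

/-- counting by classes of size four -/
theorem four_dvd_of_classes {X : Type*} [Finite X] (f : X → Set X) (h4 : ∀ x, (f x).ncard = 4)
    (hself : ∀ x, x ∈ f x) (h : ∀ x, ∀ y ∈ f x, f y = f x) : 4 ∣ Nat.card X := by
  classical
  have := Fintype.ofFinite X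
  rw [Nat.card_eq_fintype_card, ← Finset.card_univ, Finset.card_eq_sum_card_image f Finset.univ]
  apply Finset.dvd_sum
  intro s hs
  obtain ⟨x, -, rfl⟩ := Finset.mem_image.1 hs
  have h1 : ((Finset.univ.filter (fun y => f y = f x) : Finset X) : Set X) = f x := by
    ext y
    simp only [Finset.coe_filter, Finset.mem_univ, true_and, Set.mem_ofPred_eq]
    exact ⟨fun hy => hy ▸ hself y, h x y⟩
  rw [← Set.ncard_coe_finset, h1, h4]

theorem ncard_four {X : Type*} {a b c d : X} (hab : a ≠ b) (hac : a ≠ c) (had : a ≠ d) (hbc : b ≠ c) (hbd : b ≠ d)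
    (hcd : c ≠ d) : ({a, b, c, d} : Set X).ncard = 4 := by
  rw [Set.ncard_insert_of_notMem (by simp [hab, hac, had]), Set.ncard_insert_of_notMem (by simp [hbc, hbd]),
    Set.ncard_pair hcd]

/-- a free action of a four-group -/
theorem four_dvd_of_klein {X : Type*} [Finite X] (σ τ : X → X) (hσ : ∀ x, σ (σ x) = x) (hτ : ∀ x, τ (τ x) = x)
    (hc : ∀ x, σ (τ x) = τ (σ x)) (h1 : ∀ x, σ x ≠ x) (h2 : ∀ x, τ x ≠ x) (h3 : ∀ x, σ (τ x) ≠ x) :
    4 ∣ Nat.card X := by
  refine four_dvd_of_classes (fun x => {x, σ x, τ x, σ (τ x)}) (fun x => ?_) (fun x => Or.inl rfl) (fun x y hy => ?_)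
  · refine ncard_four (h1 x).symm (h2 x).symm (h3 x).symm ?_ ?_ (h1 _).symm
    · intro h
      apply h3 x
      rw [← h, hσ]
    · intro h
      apply h2 x
      have := congrArg σ h
      rw [hσ, hσ] at this
      exact this.symm
  · rcases hy with rfl | rfl | rfl | rfl
    · rfl
    · ext z
      simp only [Set.mem_insert_iff, Set.mem_singleton_iff, hσ, ← hc]
      tauto
    · ext z
      simp only [Set.mem_insert_iff, Set.mem_singleton_iff, hτ]
      tauto
    · ext z
      simp only [Set.mem_insert_iff, Set.mem_singleton_iff, hσ, hτ, hc]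
      tauto

/-- a free action of a cyclic group of order four -/
theorem four_dvd_of_cyclic {X : Type*} [Finite X] (ρ : X → X) (h4 : ∀ x, ρ (ρ (ρ (ρ x))) = x)
    (h2 : ∀ x, ρ (ρ x) ≠ x) : 4 ∣ Nat.card X := by
  have h1 : ∀ x, ρ x ≠ x := fun x h => h2 x (by rw [h, h])
  refine four_dvd_of_classes (fun x => {x, ρ x, ρ (ρ x), ρ (ρ (ρ x))}) (fun x => ?_) (fun x => Or.inl rfl)
    (fun x y hy => ?_)
  · refine ncard_four (h1 x).symm (h2 x).symm ?_ (h1 _).symm (h2 _).symm (h1 _).symm
    intro h
    apply h1 x
    have := congrArg ρ h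
    rw [h4] at this
    exact this
  · rcases hy with rfl | rfl | rfl | rfl
    · rfl
    · ext z
      simp only [Set.mem_insert_iff, Set.mem_singleton_iff, h4]
      tauto
    · ext z
      simp only [Set.mem_insert_iff, Set.mem_singleton_iff, h4]
      tauto
    · ext z
      simp only [Set.mem_insert_iff, Set.mem_singleton_iff, h4]
      tauto

theorem four_dvd_set {A : Type*} {S : Set A} (hS : S.Finite) (σ τ : A → A) (mσ : ∀ x ∈ S, σ x ∈ S)
    (mτ : ∀ x ∈ S, τ x ∈ S) (hσ : ∀ x ∈ S, σ (σ x) = x) (hτ : ∀ x ∈ S, τ (τ x) = x)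
    (hc : ∀ x ∈ S, σ (τ x) = τ (σ x)) (h1 : ∀ x ∈ S, σ x ≠ x) (h2 : ∀ x ∈ S, τ x ≠ x)
    (h3 : ∀ x ∈ S, σ (τ x) ≠ x) : 4 ∣ S.ncard := by
  have : Finite S := hS
  rw [← Nat.card_coe_set_eq]
  exact four_dvd_of_klein (X := S) (fun x => ⟨σ x, mσ x x.2⟩) (fun x => ⟨τ x, mτ x x.2⟩)
    (fun x => Subtype.ext (hσ x x.2)) (fun x => Subtype.ext (hτ x x.2)) (fun x => Subtype.ext (hc x x.2))
    (fun x h => h1 x x.2 (congrArg Subtype.val h)) (fun x h => h2 x x.2 (congrArg Subtype.val h))
    (fun x h => h3 x x.2 (congrArg Subtype.val h))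

theorem four_dvd_set' {A : Type*} {S : Set A} (hS : S.Finite) (ρ : A → A) (mρ : ∀ x ∈ S, ρ x ∈ S)
    (h4 : ∀ x ∈ S, ρ (ρ (ρ (ρ x))) = x) (h2 : ∀ x ∈ S, ρ (ρ x) ≠ x) : 4 ∣ S.ncard := by
  have : Finite S := hS
  rw [← Nat.card_coe_set_eq]
  exact four_dvd_of_cyclic (X := S) (fun x => ⟨ρ x, mρ x x.2⟩)
    (fun x => Subtype.ext (h4 x x.2)) (fun x h => h2 x x.2 (congrArg Subtype.val h))

theorem dvd_split {A : Type*} {S : Set A} (hS : S.Finite) (p : A → Prop) {n : ℕ} (h1 : n ∣ (S ∩ {x | p x}).ncard)
    (h2 : n ∣ (S ∩ {x | ¬ p x}).ncard) : n ∣ S.ncard := by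
  have e : S = (S ∩ {x | p x}) ∪ (S ∩ {x | ¬ p x}) := by
    ext x
    simp only [Set.mem_union, Set.mem_inter_iff, Set.mem_ofPred_eq]
    tauto
  rw [e, Set.ncard_union_eq ?_ (hS.inter_of_left _) (hS.inter_of_left _)]
  · exact dvd_add h1 h2
  · rw [Set.disjoint_left]
    rintro x ⟨-, hx⟩ ⟨-, hx'⟩
    exact hx' hx

section group

variable {A : Type*} [Group A] {C : Subgroup A} {s : A}

/-- Elements of a group with `z² = 1`. -/
def Inv2 (C : Subgroup A) : Set A := {z | z ∈ C ∧ z * z = 1}

theorem mul_free (hC : (C : Set A).Finite) (hss : s * s = 1) (hs1 : s ≠ 1) (hsc : ∀ x ∈ C, x * s = s * x)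
    {a : A} (ha : a ∈ C) (haa : a * a = 1) (ha1 : a ≠ 1) (has : a ≠ s) (S : Set A) (hS : S ⊆ Inv2 C)
    (hmul : ∀ z ∈ S, z * a ∈ S) (hmuls : ∀ z ∈ S, z * s ∈ S) : 4 ∣ S.ncard := by
  have hsa : a * s = s * a := hsc a ha
  refine four_dvd_set (hC.subset fun x hx => (hS hx).1) (fun z => z * a) (fun z => z * s) hmul hmuls ?_ ?_ ?_ ?_ ?_ ?_
  · intro x _; show x * a * a = x; rw [mul_assoc, haa, mul_one]
  · intro x _; show x * s * s = x; rw [mul_assoc, hss, mul_one]
  · intro x _; show x * s * a = x * a * s; rw [mul_assoc, mul_assoc, hsa]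
  · intro x _ h
    exact ha1 (mul_eq_left.1 h)
  · intro x _ h
    exact hs1 (mul_eq_left.1 h)
  · intro x _ h
    have h' : x * s * a = x := h
    rw [mul_assoc] at h'
    have h1 : s * a = 1 := mul_eq_left.1 h'
    apply has
    calc a = s * s * a := by rw [hss, one_mul]
      _ = s * (s * a) := by rw [mul_assoc]
      _ = s := by rw [h1, mul_one]

/-- Three commuting involutions `s, a, b` (`s` central). -/
theorem four_dvd_of_three (hC : (C : Set A).Finite) (hsC : s ∈ C) (hss : s * s = 1) (hs1 : s ≠ 1)
    (hsc : ∀ x ∈ C, x * s = s * x) {a b : A} (ha : a ∈ C) (haa : a * a = 1) (ha1 : a ≠ 1) (has : a ≠ s)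
    (hb : b ∈ C) (hbb : b * b = 1) (hb1 : b ≠ 1) (hbs : b ≠ s) (hab : a * b = b * a) (hab1 : a * b ≠ 1)
    (habs : a * b ≠ s) : 4 ∣ (Inv2 C).ncard := by
  have hfin : (Inv2 C).Finite := hC.subset fun x hx => hx.1
  have mulmem : ∀ {z a : A}, z ∈ Inv2 C → a ∈ C → a * a = 1 → z * a = a * z → z * a ∈ Inv2 C := by
    intro z a hz ha haa h
    refine ⟨C.mul_mem hz.1 ha, ?_⟩
    calc z * a * (z * a) = z * (a * z) * a := by group
      _ = z * (z * a) * a := by rw [h]
      _ = (z * z) * (a * a) := by group
      _ = 1 := by rw [hz.2, haa, one_mul]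
  refine dvd_split hfin (fun z => z * a = a * z) ?_ ?_
  · refine mul_free hC hss hs1 hsc ha haa ha1 has _ (fun z hz => hz.1) ?_ ?_
    · rintro z ⟨hz, hza⟩
      refine ⟨mulmem hz ha haa hza, ?_⟩
      show z * a * a = a * (z * a)
      have hza' : z * a = a * z := hza
      rw [← mul_assoc, ← hza']
    · rintro z ⟨hz, hza⟩
      refine ⟨mulmem hz hsC hss (hsc z hz.1), ?_⟩
      show z * s * a = a * (z * s)
      have hza' : z * a = a * z := hza
      rw [mul_assoc, ← hsc a ha, ← mul_assoc, hza', mul_assoc]
  refine dvd_split (hfin.inter_of_left _) (fun z => z * b = b * z) ?_ ?_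
  · refine mul_free hC hss hs1 hsc hb hbb hb1 hbs _ (fun z hz => hz.1.1) ?_ ?_
    · rintro z ⟨⟨hz, hza⟩, hzb⟩
      have hzb' : z * b = b * z := hzb
      refine ⟨⟨mulmem hz hb hbb hzb, ?_⟩, ?_⟩
      · show ¬ z * b * a = a * (z * b)
        intro h
        apply hza
        show z * a = a * z
        rw [mul_assoc, ← hab, ← mul_assoc, ← mul_assoc] at h
        exact mul_right_cancel h
      · show z * b * b = b * (z * b)
        rw [← mul_assoc, ← hzb']
    · rintro z ⟨⟨hz, hza⟩, hzb⟩
      have hzb' : z * b = b * z := hzb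
      refine ⟨⟨mulmem hz hsC hss (hsc z hz.1), ?_⟩, ?_⟩
      · show ¬ z * s * a = a * (z * s)
        intro h
        apply hza
        show z * a = a * z
        rw [mul_assoc, ← hsc a ha, ← mul_assoc, ← mul_assoc] at h
        exact mul_right_cancel h
      · show z * s * b = b * (z * s)
        rw [mul_assoc, ← hsc b hb, ← mul_assoc, hzb', mul_assoc]
  refine dvd_split ((hfin.inter_of_left _).inter_of_left _) (fun z => z * (a * b) = (a * b) * z) ?_ ?_
  · refine mul_free hC hss hs1 hsc (C.mul_mem ha hb) ?_ hab1 habs _ (fun z hz => hz.1.1.1) ?_ ?_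
    · calc a * b * (a * b) = a * (b * a) * b := by group
        _ = a * (a * b) * b := by rw [hab]
        _ = (a * a) * (b * b) := by group
        _ = 1 := by rw [haa, hbb, one_mul]
    · rintro z ⟨⟨⟨hz, hza⟩, hzb⟩, hzc⟩
      have hzc' : z * (a * b) = a * b * z := hzc
      have e1 : a * b * (a * b) = 1 := by
        calc a * b * (a * b) = a * (b * a) * b := by group
          _ = a * (a * b) * b := by rw [hab]
          _ = (a * a) * (b * b) := by group
          _ = 1 := by rw [haa, hbb, one_mul]
      refine ⟨⟨⟨mulmem hz (C.mul_mem ha hb) e1 hzc, ?_⟩, ?_⟩, ?_⟩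
      · show ¬ z * (a * b) * a = a * (z * (a * b))
        intro h
        apply hza
        show z * a = a * z
        have h1 : z * (a * b) * a = z * a * (a * b) := by
          calc z * (a * b) * a = z * a * (b * a) := by group
            _ = z * a * (a * b) := by rw [hab]
        rw [h1, ← mul_assoc a] at h
        exact mul_right_cancel h
      · show ¬ z * (a * b) * b = b * (z * (a * b))
        intro h
        apply hzb
        show z * b = b * z
        have h1 : z * (a * b) * b = z * b * (a * b) := by
          calc z * (a * b) * b = z * (a * b) * b := rfl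
            _ = z * (b * a) * b := by rw [hab]
            _ = z * b * (a * b) := by group
        rw [h1, ← mul_assoc b] at h
        exact mul_right_cancel h
      · show z * (a * b) * (a * b) = a * b * (z * (a * b))
        rw [← mul_assoc (a * b), ← hzc']
    · rintro z ⟨⟨⟨hz, hza⟩, hzb⟩, hzc⟩
      have hzc' : z * (a * b) = a * b * z := hzc
      refine ⟨⟨⟨mulmem hz hsC hss (hsc z hz.1), ?_⟩, ?_⟩, ?_⟩
      · show ¬ z * s * a = a * (z * s)
        intro h
        apply hza
        show z * a = a * z
        rw [mul_assoc, ← hsc a ha, ← mul_assoc, ← mul_assoc] at h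
        exact mul_right_cancel h
      · show ¬ z * s * b = b * (z * s)
        intro h
        apply hzb
        show z * b = b * z
        rw [mul_assoc, ← hsc b hb, ← mul_assoc, ← mul_assoc] at h
        exact mul_right_cancel h
      · show z * s * (a * b) = a * b * (z * s)
        rw [mul_assoc, ← hsc _ (C.mul_mem ha hb), ← mul_assoc, hzc', mul_assoc]
  · have hai : a⁻¹ = a := inv_eq_of_mul_eq_one_left haa
    have hbi : b⁻¹ = b := inv_eq_of_mul_eq_one_left hbb
    refine four_dvd_set (((hfin.inter_of_left _).inter_of_left _).inter_of_left _) (fun z => a * z * a) (fun z => b * z * b)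
      ?_ ?_ ?_ ?_ ?_ ?_ ?_ ?_
    · rintro z ⟨⟨⟨hz, hza⟩, hzb⟩, hzc⟩
      refine ⟨⟨⟨⟨C.mul_mem (C.mul_mem ha hz.1) ha, ?_⟩, ?_⟩, ?_⟩, ?_⟩
      · calc a * z * a * (a * z * a) = a * z * (a * a) * z * a := by group
          _ = a * (z * z) * a := by rw [haa]; group
          _ = 1 := by rw [hz.2, mul_one, haa]
      · show ¬ a * z * a * a = a * (a * z * a)
        intro h
        apply hza
        show z * a = a * z
        have h1 : a * z * a * a = a * z := by rw [mul_assoc, haa, mul_one]
        have h2 : a * (a * z * a) = z * a := by rw [← mul_assoc, ← mul_assoc, haa, one_mul]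
        rw [h1, h2] at h
        exact h.symm
      · show ¬ a * z * a * b = b * (a * z * a)
        intro h
        apply hzb
        show z * b = b * z
        have h1 : a * z * a * b = a * (z * b) * a := by rw [mul_assoc _ a b, hab]; group
        have h2 : b * (a * z * a) = a * (b * z) * a := by
          calc b * (a * z * a) = b * a * z * a := by group
            _ = a * b * z * a := by rw [hab]
            _ = _ := by group
        rw [h1, h2] at h
        exact mul_left_cancel (mul_right_cancel h)
      · show ¬ a * z * a * (a * b) = a * b * (a * z * a)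
        intro h
        apply hzc
        show z * (a * b) = a * b * z
        have h1 : a * z * a * (a * b) = a * (z * (a * b)) * a := by
          calc a * z * a * (a * b) = a * z * a * (b * a) := by rw [hab]
            _ = _ := by group
        have h2 : a * b * (a * z * a) = a * (a * b * z) * a := by
          calc a * b * (a * z * a) = a * (b * a) * z * a := by group
            _ = a * (a * b) * z * a := by rw [hab]
            _ = _ := by group
        rw [h1, h2] at h
        exact mul_left_cancel (mul_right_cancel h)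
    · rintro z ⟨⟨⟨hz, hza⟩, hzb⟩, hzc⟩
      refine ⟨⟨⟨⟨C.mul_mem (C.mul_mem hb hz.1) hb, ?_⟩, ?_⟩, ?_⟩, ?_⟩
      · calc b * z * b * (b * z * b) = b * z * (b * b) * z * b := by group
          _ = b * (z * z) * b := by rw [hbb]; group
          _ = 1 := by rw [hz.2, mul_one, hbb]
      · show ¬ b * z * b * a = a * (b * z * b)
        intro h
        apply hza
        show z * a = a * z
        have h1 : b * z * b * a = b * (z * a) * b := by rw [mul_assoc _ b a, ← hab]; group
        have h2 : a * (b * z * b) = b * (a * z) * b := by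
          calc a * (b * z * b) = a * b * z * b := by group
            _ = b * a * z * b := by rw [hab]
            _ = _ := by group
        rw [h1, h2] at h
        exact mul_left_cancel (mul_right_cancel h)
      · show ¬ b * z * b * b = b * (b * z * b)
        intro h
        apply hzb
        show z * b = b * z
        have h1 : b * z * b * b = b * z := by rw [mul_assoc, hbb, mul_one]
        have h2 : b * (b * z * b) = z * b := by rw [← mul_assoc, ← mul_assoc, hbb, one_mul]
        rw [h1, h2] at h
        exact h.symm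
      · show ¬ b * z * b * (a * b) = a * b * (b * z * b)
        intro h
        apply hzc
        show z * (a * b) = a * b * z
        have h1 : b * z * b * (a * b) = b * (z * (a * b)) * b := by
          calc b * z * b * (a * b) = b * z * (b * a) * b := by group
            _ = b * z * (a * b) * b := by rw [hab]
            _ = _ := by group
        have h2 : a * b * (b * z * b) = b * (a * b * z) * b := by
          calc a * b * (b * z * b) = b * a * b * z * b := by rw [hab]; group
            _ = _ := by group
        rw [h1, h2] at h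
        exact mul_left_cancel (mul_right_cancel h)
    · rintro z -
      show a * (a * z * a) * a = z
      calc a * (a * z * a) * a = (a * a) * z * (a * a) := by group
        _ = z := by rw [haa, one_mul, mul_one]
    · rintro z -
      show b * (b * z * b) * b = z
      calc b * (b * z * b) * b = (b * b) * z * (b * b) := by group
        _ = z := by rw [hbb, one_mul, mul_one]
    · rintro z -
      show a * (b * z * b) * a = b * (a * z * a) * b
      calc a * (b * z * b) * a = (a * b) * z * (b * a) := by group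
        _ = (b * a) * z * (a * b) := by rw [hab]
        _ = _ := by group
    · rintro z ⟨⟨⟨hz, hza⟩, hzb⟩, hzc⟩ h
      apply hza
      show z * a = a * z
      have h' : a * z * a = z := h
      calc z * a = a * z * a * a := by rw [h']
        _ = a * z := by rw [mul_assoc, haa, mul_one]
    · rintro z ⟨⟨⟨hz, hza⟩, hzb⟩, hzc⟩ h
      apply hzb
      show z * b = b * z
      have h' : b * z * b = z := h
      calc z * b = b * z * b * b := by rw [h']
        _ = b * z := by rw [mul_assoc, hbb, mul_one]
    · rintro z ⟨⟨⟨hz, hza⟩, hzb⟩, hzc⟩ h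
      apply hzc
      show z * (a * b) = a * b * z
      have h' : a * (b * z * b) * a = z := h
      calc z * (a * b) = a * (b * z * b) * a * (a * b) := by rw [h']
        _ = a * b * z * b * (a * a) * b := by group
        _ = a * b * z * (b * b) := by rw [haa]; group
        _ = a * b * z := by rw [hbb, mul_one]

/-- A central element of order four and a noncentral involution. -/
theorem four_dvd_of_four (hC : (C : Set A).Finite) (hsC : s ∈ C) (hss : s * s = 1) (hs1 : s ≠ 1)
    (hsc : ∀ x ∈ C, x * s = s * x) {j e : A} (hj : j ∈ C) (hjj : j * j = s) (hjc : ∀ x ∈ C, x * j = j * x)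
    (he : e ∈ C) (hee : e * e = 1) (he1 : e ≠ 1) (hes : e ≠ s) : 4 ∣ (Inv2 C).ncard := by
  have hfin : (Inv2 C).Finite := hC.subset fun x hx => hx.1
  have hse : e * s = s * e := hsc e he
  have mulmem : ∀ {z a : A}, z ∈ Inv2 C → a ∈ C → a * a = 1 → z * a = a * z → z * a ∈ Inv2 C := by
    intro z a hz ha haa h
    refine ⟨C.mul_mem hz.1 ha, ?_⟩
    calc z * a * (z * a) = z * (a * z) * a := by group
      _ = z * (z * a) * a := by rw [h]
      _ = (z * z) * (a * a) := by group
      _ = 1 := by rw [hz.2, haa, one_mul]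
  refine dvd_split hfin (fun z => z * e = e * z) ?_ ?_
  · refine mul_free hC hss hs1 hsc he hee he1 hes _ (fun z hz => hz.1) ?_ ?_
    · rintro z ⟨hz, hza⟩
      refine ⟨mulmem hz he hee hza, ?_⟩
      show z * e * e = e * (z * e)
      have hza' : z * e = e * z := hza
      rw [← mul_assoc, ← hza']
    · rintro z ⟨hz, hza⟩
      refine ⟨mulmem hz hsC hss (hsc z hz.1), ?_⟩
      show z * s * e = e * (z * s)
      have hza' : z * e = e * z := hza
      rw [mul_assoc, ← hse, ← mul_assoc, hza', mul_assoc]
  refine dvd_split (hfin.inter_of_left _) (fun z => z * e = s * (e * z)) ?_ ?_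
  · refine four_dvd_set' ((hfin.inter_of_left _).inter_of_left _) (fun z => j * e * z) ?_ ?_ ?_
    · rintro z ⟨⟨hz, hz1⟩, hz2⟩
      have hz2' : z * e = s * (e * z) := hz2
      have hje : e * j = j * e := hjc e he
      have hzj : z * j = j * z := hjc z hz.1
      refine ⟨⟨⟨C.mul_mem (C.mul_mem hj he) hz.1, ?_⟩, ?_⟩, ?_⟩
      · calc j * e * z * (j * e * z) = j * e * (z * j) * e * z := by group
          _ = j * (e * j) * (z * e) * z := by rw [hzj]; group
          _ = j * (j * e) * (s * (e * z)) * z := by rw [hje, hz2']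
          _ = (j * j) * (e * s) * e * (z * z) := by group
          _ = s * (s * e) * e * (z * z) := by rw [hjj, hse]
          _ = (s * s) * (e * e) * (z * z) := by group
          _ = 1 := by rw [hss, hee, hz.2]; group
      · show ¬ j * e * z * e = e * (j * e * z)
        intro h
        apply hz1
        show z * e = e * z
        have h1 : e * (j * e * z) = j * e * (e * z) := by
          calc e * (j * e * z) = (e * j) * e * z := by group
            _ = _ := by rw [hje]; group
        rw [h1, mul_assoc (j * e)] at h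
        exact mul_left_cancel h
      · show j * e * z * e = s * (e * (j * e * z))
        calc j * e * z * e = j * e * (z * e) := by group
          _ = j * e * (s * (e * z)) := by rw [hz2']
          _ = j * (e * s) * e * z := by group
          _ = (j * s) * e * e * z := by rw [hse]; group
          _ = s * (j * e) * (e * z) := by rw [hsc j hj]; group
          _ = s * (e * j) * (e * z) := by rw [hje]
          _ = _ := by group
    · rintro z ⟨⟨hz, hz1⟩, hz2⟩
      have hje : e * j = j * e := hjc e he
      have hq : ∀ y : A, j * e * (j * e * y) = s * y := by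
        intro y
        calc j * e * (j * e * y) = j * (e * j) * e * y := by group
          _ = (j * j) * (e * e) * y := by rw [hje]; group
          _ = s * y := by rw [hjj, hee, mul_one]
      show j * e * (j * e * (j * e * (j * e * z))) = z
      rw [hq, hq, ← mul_assoc, hss, one_mul]
    · rintro z ⟨⟨hz, hz1⟩, hz2⟩ h
      have hje : e * j = j * e := hjc e he
      have hq : j * e * (j * e * z) = s * z := by
        calc j * e * (j * e * z) = j * (e * j) * e * z := by group
          _ = (j * j) * (e * e) * z := by rw [hje]; group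
          _ = s * z := by rw [hjj, hee, mul_one]
      have h' : j * e * (j * e * z) = z := h
      rw [hq] at h'
      exact hs1 (mul_eq_right.1 h')
  · refine four_dvd_set ((hfin.inter_of_left _).inter_of_left _) (fun z => e * z * e) (fun z => s * z) ?_ ?_ ?_ ?_ ?_ ?_ ?_ ?_
    · rintro z ⟨⟨hz, hz1⟩, hz2⟩
      refine ⟨⟨⟨C.mul_mem (C.mul_mem he hz.1) he, ?_⟩, ?_⟩, ?_⟩
      · calc e * z * e * (e * z * e) = e * z * (e * e) * z * e := by group
          _ = e * (z * z) * e := by rw [hee]; group
          _ = 1 := by rw [hz.2, mul_one, hee]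
      · show ¬ e * z * e * e = e * (e * z * e)
        intro h
        apply hz1
        show z * e = e * z
        have h1 : e * z * e * e = e * z := by rw [mul_assoc, hee, mul_one]
        have h2 : e * (e * z * e) = z * e := by rw [← mul_assoc, ← mul_assoc, hee, one_mul]
        rw [h1, h2] at h
        exact h.symm
      · show ¬ e * z * e * e = s * (e * (e * z * e))
        intro h
        apply hz2
        show z * e = s * (e * z)
        have h1 : e * z * e * e = e * z := by rw [mul_assoc, hee, mul_one]
        have h2 : e * (e * z * e) = z * e := by rw [← mul_assoc, ← mul_assoc, hee, one_mul]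
        rw [h1, h2] at h
        rw [h, ← mul_assoc, hss, one_mul]
    · rintro z ⟨⟨hz, hz1⟩, hz2⟩
      have hzs : z * s = s * z := hsc z hz.1
      refine ⟨⟨⟨C.mul_mem hsC hz.1, ?_⟩, ?_⟩, ?_⟩
      · calc s * z * (s * z) = s * (z * s) * z := by group
          _ = (s * s) * (z * z) := by rw [hzs]; group
          _ = 1 := by rw [hss, hz.2, one_mul]
      · show ¬ s * z * e = e * (s * z)
        intro h
        apply hz1
        show z * e = e * z
        have h1 : e * (s * z) = s * (e * z) := by rw [← mul_assoc, hse, mul_assoc]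
        rw [h1, mul_assoc] at h
        exact mul_left_cancel h
      · show ¬ s * z * e = s * (e * (s * z))
        intro h
        apply hz2
        show z * e = s * (e * z)
        have h1 : e * (s * z) = s * (e * z) := by rw [← mul_assoc, hse, mul_assoc]
        rw [h1, mul_assoc] at h
        exact mul_left_cancel h
    · rintro z -
      show e * (e * z * e) * e = z
      calc e * (e * z * e) * e = (e * e) * z * (e * e) := by group
        _ = z := by rw [hee, one_mul, mul_one]
    · rintro z -
      show s * (s * z) = z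
      rw [← mul_assoc, hss, one_mul]
    · rintro z -
      show e * (s * z) * e = s * (e * z * e)
      calc e * (s * z) * e = (e * s) * z * e := by group
        _ = (s * e) * z * e := by rw [hse]
        _ = _ := by group
    · rintro z ⟨⟨hz, hz1⟩, hz2⟩ h
      apply hz1
      show z * e = e * z
      have h' : e * z * e = z := h
      calc z * e = e * z * e * e := by rw [h']
        _ = e * z := by rw [mul_assoc, hee, mul_one]
    · rintro z - h
      exact hs1 (mul_eq_right.1 h)
    · rintro z ⟨⟨hz, hz1⟩, hz2⟩ h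
      apply hz2
      show z * e = s * (e * z)
      have h' : e * (s * z) * e = z := h
      calc z * e = e * (s * z) * e * e := by rw [h']
        _ = (e * s) * z := by rw [mul_assoc _ e e, hee]; group
        _ = s * (e * z) := by rw [hse, mul_assoc]

/-- A `2`-group acting on a set of size `2 mod 4` by conjugation, with a free multiplication by `s`. -/
theorem exists_pair (hss : s * s = 1) (hs1 : s ≠ 1) (hsc : ∀ x : A, x * s = s * x) {P : Subgroup A} [Finite P]
    (hP : IsPGroup 2 P) {I : Set A} (hI : I.Finite) (h4 : 4 ∣ I.ncard) (h1 : 1 ∈ I) (hsI : s ∈ I)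
    (hmul : ∀ z ∈ I, s * z ∈ I) (hconj : ∀ g ∈ P, ∀ z ∈ I, g * z * g⁻¹ ∈ I) :
    ∃ z ∈ I, z ≠ 1 ∧ z ≠ s ∧ ∀ g ∈ P, g * z * g⁻¹ = z ∨ g * z * g⁻¹ = s * z := by
  classical
  have hI2 : (I \ {1, s}).ncard + 2 = I.ncard := by
    have h2 : ({1, s} : Set A).ncard = 2 := Set.ncard_pair (Ne.symm hs1)
    rw [← h2]
    refine Set.ncard_sdiff_add_ncard_of_subset ?_ hI
    rintro x (rfl | rfl)
    · exact h1
    · exact hsI
  have hsi : s⁻¹ = s := inv_eq_of_mul_eq_one_left hss
  have hz2 : ∀ u ∈ Subgroup.zpowers s, u = 1 ∨ u = s := by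
    intro u hu
    obtain ⟨n, rfl⟩ := Subgroup.mem_zpowers_iff.1 hu
    rcases Int.even_or_odd' n with ⟨k, rfl | rfl⟩
    · left
      rw [zpow_mul, zpow_two, hss, one_zpow]
    · right
      rw [zpow_add, zpow_mul, zpow_two, hss, one_zpow, one_mul, zpow_one]
  have key : ∀ g ∈ P, ∀ u ∈ Subgroup.zpowers s, ∀ z ∈ I \ {1, s}, g * z * g⁻¹ * u ∈ I \ {1, s} := by
    have k1 : ∀ g ∈ P, ∀ z ∈ I \ {1, s}, g * z * g⁻¹ ∈ I \ {1, s} := by
      rintro g hg z ⟨hz, hz'⟩
      refine ⟨hconj g hg z hz, ?_⟩
      rintro (h | h)
      · apply hz'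
        left
        rw [mul_inv_eq_one] at h
        exact mul_eq_left.1 h
      · apply hz'
        right
        have h2 : g * z * g⁻¹ = s := h
        rw [mul_inv_eq_iff_eq_mul, ← hsc] at h2
        exact mul_left_cancel h2
    have k2 : ∀ z ∈ I \ {1, s}, z * s ∈ I \ {1, s} := by
      rintro z ⟨hz, hz'⟩
      rw [hsc]
      refine ⟨hmul z hz, ?_⟩
      rintro (h | h)
      · apply hz'
        right
        have h2 : s * z = 1 := h
        rw [← hsi]
        exact (inv_eq_of_mul_eq_one_right h2).symm
      · apply hz'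
        left
        exact mul_eq_left.1 h
    intro g hg u hu z hz
    rcases hz2 u hu with rfl | rfl
    · rw [mul_one]; exact k1 g hg z hz
    · exact k2 _ (k1 g hg z hz)
  let X := ↥(I \ {1, s})
  have hX : Finite X := hI.subset (fun x hx => hx.1)
  let act : MulAction (P × Subgroup.zpowers s) X :=
    { smul := fun h z => ⟨(h.1 : A) * z * (h.1 : A)⁻¹ * h.2, key _ h.1.2 _ h.2.2 _ z.2⟩
      one_smul := fun z => by
        apply Subtype.ext
        show (1 : A) * z * (1 : A)⁻¹ * 1 = z
        group
      mul_smul := fun h k z => by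
        apply Subtype.ext
        show ((h.1 : A) * k.1) * z * ((h.1 : A) * k.1)⁻¹ * ((h.2 : A) * k.2) =
          (h.1 : A) * ((k.1 : A) * z * (k.1 : A)⁻¹ * k.2) * (h.1 : A)⁻¹ * h.2
        have hk : ∀ x : A, x * (k.2 : A) = k.2 * x := by
          intro x
          rcases hz2 _ k.2.2 with h5 | h5
          · rw [h5, mul_one, one_mul]
          · rw [h5, hsc]
        calc ((h.1 : A) * k.1) * z * ((h.1 : A) * k.1)⁻¹ * ((h.2 : A) * k.2)
            = (h.1 : A) * k.1 * z * (k.1 : A)⁻¹ * (((h.1 : A)⁻¹ * h.2) * k.2) := by group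
          _ = (h.1 : A) * k.1 * z * (k.1 : A)⁻¹ * (k.2 * ((h.1 : A)⁻¹ * h.2)) := by rw [hk]
          _ = _ := by group }
  have ho : orderOf s = 2 := orderOf_eq_prime (by rw [pow_two, hss]) hs1
  have hfs : Finite (Subgroup.zpowers s) := by
    apply Nat.finite_of_card_ne_zero
    rw [Nat.card_zpowers, ho]
    norm_num
  have hPG : IsPGroup 2 (P × Subgroup.zpowers s) := by
    have : Fact (Nat.Prime 2) := ⟨Nat.prime_two⟩
    obtain ⟨n, hn⟩ := IsPGroup.iff_card.1 hP
    apply IsPGroup.of_card (n := n + 1)
    rw [Nat.card_prod, hn, Nat.card_zpowers, ho, pow_succ]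
  have hcX : Nat.card X + 2 = I.ncard := by
    rw [← hI2, ← Nat.card_coe_set_eq]
  -- an orbit of size not divisible by four
  obtain ⟨z, hz⟩ : ∃ z : X, ¬ 4 ∣ Nat.card (MulAction.orbit (P × Subgroup.zpowers s) z) := by
    by_contra hcon
    push Not at hcon
    have h5 : 4 ∣ Nat.card X := by
      have := Fintype.ofFinite (MulAction.orbitRel.Quotient (P × Subgroup.zpowers s) X)
      rw [Nat.card_congr (MulAction.selfEquivSigmaOrbits (P × Subgroup.zpowers s) X), Nat.card_sigma]
      exact Finset.dvd_sum fun ω _ => hcon _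
    omega
  have : Fact (Nat.Prime 2) := ⟨Nat.prime_two⟩
  obtain ⟨n, hn⟩ := hPG.card_orbit z
  have hn1 : Nat.card (MulAction.orbit (P × Subgroup.zpowers s) z) ≤ 2 := by
    rw [hn] at hz ⊢
    have : n ≤ 1 := by
      by_contra h
      exact hz (pow_dvd_pow 2 (by omega : 2 ≤ n))
    calc 2 ^ n ≤ 2 ^ 1 := Nat.pow_le_pow_right (by norm_num) this
      _ = 2 := by norm_num
  refine ⟨z, z.2.1, fun h => z.2.2 (Or.inl h), fun h => z.2.2 (Or.inr h), fun g hg => ?_⟩
  by_contra hcon
  push Not at hcon
  let y1 : X := ((1 : P), (⟨s, Subgroup.mem_zpowers s⟩ : Subgroup.zpowers s)) • z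
  let y2 : X := ((⟨g, hg⟩ : P), (1 : Subgroup.zpowers s)) • z
  have e1 : (y1 : A) = s * z := by
    show (1 : A) * z * (1 : A)⁻¹ * s = s * z
    rw [← hsc]
    group
  have e2 : (y2 : A) = g * z * g⁻¹ := by
    show g * z * g⁻¹ * 1 = _
    rw [mul_one]
  have m1 : y1 ∈ MulAction.orbit (P × Subgroup.zpowers s) z := MulAction.mem_orbit _ _
  have m2 : y2 ∈ MulAction.orbit (P × Subgroup.zpowers s) z := MulAction.mem_orbit _ _
  have m0 : z ∈ MulAction.orbit (P × Subgroup.zpowers s) z := MulAction.mem_orbit_self _
  have h3 : ({z, y1, y2} : Set X).ncard = 3 := by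
    rw [Set.ncard_insert_of_notMem, Set.ncard_pair]
    · intro h
      apply hcon.2
      rw [← e2, ← e1, h]
    · rintro (h | h)
      · have h' := congrArg Subtype.val h
        rw [e1] at h'
        exact hs1 (mul_eq_right.1 h'.symm)
      · have h' := congrArg Subtype.val h
        rw [e2] at h'
        exact hcon.1 h'.symm
  have h4 : ({z, y1, y2} : Set X).ncard ≤ (MulAction.orbit (P × Subgroup.zpowers s) z).ncard := by
    refine Set.ncard_le_ncard ?_ (Set.toFinite _)
    rintro x (rfl | rfl | rfl)
    · exact m0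
    · exact m1
    · exact m2
  rw [Nat.card_coe_set_eq] at hn1
  omega

end group

end Cfsg.Agent.H137.FR
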