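import Cfsg.Agent.H137.FR.Red

/-!
# S4970, FR-SEM2 (helper137): the case `c + c⁻¹ = τ`, `τ ≠ ±2`

* `exists_plane`: `c`-invariant nondegenerate planes;
* `red_of_scalar`: `Red B (closure {c} ⊔ P)` unless `dim V = 4` and `4 - τ²` is not a square.
-/

set_option autoImplicit false

universe u

namespace Cfsg.Agent.H137.FR

open Cfsg Cfsg.Agent.H721.FR Cfsg.Agent.H721.SR Module

variable {F V : Type u} [Field F] [AddCommGroup V] [Module F V]

section

variable {B : V →ₗ[F] V →ₗ[F] F} {ε : F} (hF : Fm B ε) {c : V ≃ₗ[F] V} (hc : c ∈ Isom B) {τ : F}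
  (hτ : ∀ x, c x + c.symm x = τ • x)

include hc in
theorem isom_symm (x y : V) : B (c.symm x) (c.symm y) = B x y := by
  rw [← hc (c.symm x), LinearEquiv.apply_symm_apply, LinearEquiv.apply_symm_apply]

include hc in
theorem isom_symm_left (x y : V) : B (c.symm x) y = B x (c y) := by
  rw [← hc (c.symm x) y, LinearEquiv.apply_symm_apply]

include hτ in
theorem sq_apply (x : V) : c (c x) = τ • c x - x := by
  have h := hτ (c x)
  rw [LinearEquiv.symm_apply_apply] at h
  rw [← h, add_sub_cancel_right]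

include hF hc hτ in
/-- `(1 + ε) B(v, cv) = τ B(v, v)` -/
theorem trace_eq (v : V) : (1 + ε) * B v (c v) = τ * B v v := by
  have h1 : B v (c v + c.symm v) = τ * B v v := by rw [hτ, map_smul, smul_eq_mul]
  have h2 : B v (c.symm v) = ε * B v (c v) := by
    rw [hF.symm v (c.symm v), isom_symm_left hc]
  rw [map_add, h2] at h1
  rw [← h1]
  ring

/-- the plane `⟨v, c v⟩` -/
def pln (c : V ≃ₗ[F] V) (v : V) : Submodule F V := Submodule.span F {v, c v}

theorem mem_pln {v x : V} : x ∈ pln c v ↔ ∃ a b : F, a • v + b • c v = x := Submodule.mem_span_pair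

include hτ in
theorem pln_inv (v : V) : ∀ x ∈ pln c v, c x ∈ pln c v := by
  intro x hx
  obtain ⟨a, b, rfl⟩ := mem_pln.1 hx
  refine mem_pln.2 ⟨-b, a + b * τ, ?_⟩
  rw [map_add, map_smul, map_smul, sq_apply hτ]
  module

include hF hc in
theorem ndOn_pln_of {v : V} (hd : ∀ a b : F, a * B v v + b * (ε * B v (c v)) = 0 → a * B v (c v) + b * B v v = 0 →
    a = 0 ∧ b = 0) : NdOn B (pln c v) ∧ (v ≠ 0 → finrank F (pln c v) = 2) := by
  have h1 : ∀ a b : F, B (a • v + b • c v) v = a * B v v + b * (ε * B v (c v)) := by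
    intro a b
    rw [map_add, map_smul, map_smul, LinearMap.add_apply, LinearMap.smul_apply, LinearMap.smul_apply,
      hF.symm (c v) v, smul_eq_mul, smul_eq_mul]
  have h2 : ∀ a b : F, B (a • v + b • c v) (c v) = a * B v (c v) + b * B v v := by
    intro a b
    rw [map_add, map_smul, map_smul, LinearMap.add_apply, LinearMap.smul_apply, LinearMap.smul_apply, hc v v,
      smul_eq_mul, smul_eq_mul]
  refine ⟨fun x hx h => ?_, fun hv => ?_⟩
  · obtain ⟨a, b, rfl⟩ := mem_pln.1 hx
    have e1 := h v (mem_pln.2 ⟨1, 0, by module⟩)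
    have e2 := h (c v) (mem_pln.2 ⟨0, 1, by module⟩)
    rw [h1] at e1
    rw [h2] at e2
    obtain ⟨rfl, rfl⟩ := hd a b e1 e2
    module
  · have hli : LinearIndependent F ![v, c v] := by
      rw [LinearIndependent.pair_iff]
      intro a b hab
      apply hd a b
      · rw [← h1, hab, map_zero, LinearMap.zero_apply]
      · rw [← h2, hab, map_zero, LinearMap.zero_apply]
    have h3 := finrank_span_eq_card hli
    have h4 : Set.range ![v, c v] = {v, c v} := by
      rw [Matrix.range_cons, Matrix.range_cons, Matrix.range_empty, Set.union_empty]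
      rfl
    rw [h4, Fintype.card_fin] at h3
    exact h3

include hF hc hτ in
/-- **Invariant nondegenerate planes.** -/
theorem exists_plane (h2 : τ ≠ 2) (h2' : τ ≠ -2) {W : Submodule F V} (hW : NdOn B W) (hcW : ∀ x ∈ W, c x ∈ W)
    (hb : W ≠ ⊥) :
    ∃ U : Submodule F V, U ≤ W ∧ (∀ x ∈ U, c x ∈ U) ∧ NdOn B U ∧ finrank F U = 2 := by
  obtain ⟨w, hw, hw0⟩ := Submodule.exists_mem_ne_zero_of_ne_bot hb
  have hle : ∀ v ∈ W, pln c v ≤ W := by
    intro v hv x hx
    obtain ⟨a, b, rfl⟩ := mem_pln.1 hx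
    exact W.add_mem (W.smul_mem _ hv) (W.smul_mem _ (hcW v hv))
  have hf2 := hF.two
  rcases hF.eps with he | ⟨he, -⟩
  · -- orthogonal
    obtain ⟨v, hv, hvv⟩ : ∃ v ∈ W, B v v ≠ 0 := by
      by_contra hcon
      push Not at hcon
      apply hw0
      apply hW w hw
      intro y hy
      have h3 := hcon (w + y) (W.add_mem hw hy)
      rw [map_add, map_add, LinearMap.add_apply, LinearMap.add_apply, hcon w hw, hcon y hy, zero_add, add_zero,
        hF.symm y w, he, one_mul, ← two_mul] at h3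
      exact (mul_eq_zero.1 h3).resolve_left hf2
    have hv0 : v ≠ 0 := by
      rintro rfl
      exact hvv (map_zero _)
    have h3 := trace_eq hF hc hτ v
    rw [he] at h3
    obtain ⟨h4, h5⟩ := ndOn_pln_of (c := c) hF hc (v := v) (by
      intro a b e1 e2
      rw [he, one_mul] at e1
      have e3 : (4 - τ ^ 2) * B v v ^ 2 = 4 * (B v v ^ 2 - B v (c v) ^ 2) := by
        have : (2 * B v (c v)) ^ 2 = (τ * B v v) ^ 2 := by rw [← h3]; ring
        linear_combination this
      have e4 : (4 - τ ^ 2) * B v v ^ 2 ≠ 0 := by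
        refine mul_ne_zero ?_ (pow_ne_zero 2 hvv)
        have : (4 - τ ^ 2) = (2 - τ) * (2 + τ) := by ring
        rw [this]
        refine mul_ne_zero (sub_ne_zero.2 h2.symm) ?_
        intro h
        apply h2'
        linear_combination h
      rw [e3] at e4
      have e5 : B v v ^ 2 - B v (c v) ^ 2 ≠ 0 := right_ne_zero_of_mul e4
      constructor
      · have : a * (B v v ^ 2 - B v (c v) ^ 2) = 0 := by linear_combination B v v * e1 - B v (c v) * e2
        exact (mul_eq_zero.1 this).resolve_right e5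
      · have : b * (B v v ^ 2 - B v (c v) ^ 2) = 0 := by linear_combination B v v * e2 - B v (c v) * e1
        exact (mul_eq_zero.1 this).resolve_right e5)
    exact ⟨pln c v, hle v hv, pln_inv hτ v, h4, h5 hv0⟩
  · -- symplectic
    have hvv : ∀ v, B v v = 0 := by
      intro v
      have h3 := hF.symm v v
      rw [he] at h3
      have h4 : (2 : F) * B v v = 0 := by linear_combination h3
      exact (mul_eq_zero.1 h4).resolve_left hf2
    obtain ⟨v, hv, hvc⟩ : ∃ v ∈ W, B v (c v) ≠ 0 := by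
      by_contra hcon
      push Not at hcon
      -- `c y = c⁻¹ y` on `W`
      have h4 : ∀ y ∈ W, c.symm y ∈ W := by
        intro y hy
        have : c.symm y = τ • y - c y := by rw [← hτ]; abel
        rw [this]
        exact W.sub_mem (W.smul_mem _ hy) (hcW y hy)
      have h5 : ∀ y ∈ W, c y - c.symm y = 0 := by
        intro y hy
        apply hW _ (W.sub_mem (hcW y hy) (h4 y hy))
        intro x hx
        have h6 := hcon (x + y) (W.add_mem hx hy)
        simp only [map_add, LinearMap.add_apply, hcon x hx, hcon y hy] at h6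
        have h7 : B y (c x) = B (c.symm y) x := (isom_symm_left hc y x).symm
        rw [h7] at h6
        rw [hF.symm x (c y), he] at h6
        rw [map_sub, LinearMap.sub_apply]
        linear_combination -h6
      have h6 := h5 w hw
      have h7 : (2 : F) • c w = τ • w := by
        rw [← hτ, two_smul]
        rw [sub_eq_zero] at h6
        rw [← h6]
      have h8 : (4 : F) • w = τ ^ 2 • w := by
        have h9 : (2 : F) • c.symm w = τ • w := by
          rw [sub_eq_zero] at h6
          rw [← h6, h7]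
        have h10 : (2 : F) • c (c.symm w) = c (c.symm ((2 : F) • w)) := by rw [map_smul, map_smul]
        have h11 : (2 : F) • ((2 : F) • w) = τ • (τ • w) := by
          calc (2 : F) • ((2 : F) • w) = (2 : F) • ((2 : F) • c (c.symm w)) := by rw [LinearEquiv.apply_symm_apply]
            _ = (2 : F) • c ((2 : F) • c.symm w) := by rw [map_smul]
            _ = (2 : F) • c (τ • w) := by rw [h9]
            _ = τ • ((2 : F) • c w) := by rw [map_smul, smul_comm]
            _ = τ • (τ • w) := by rw [h7]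
        rw [smul_smul, smul_smul] at h11
        rw [show (4 : F) = 2 * 2 by norm_num, pow_two]
        exact h11
      have h9 : ((2 - τ) * (2 + τ)) • w = 0 := by
        have : (2 - τ) * (2 + τ) = 4 - τ ^ 2 := by ring
        rw [this, sub_smul, h8, sub_self]
      rcases smul_eq_zero.1 h9 with h10 | h10
      · rcases mul_eq_zero.1 h10 with h11 | h11
        · exact h2 (sub_eq_zero.1 h11).symm
        · exact h2' (by linear_combination h11)
      · exact hw0 h10
    have hv0 : v ≠ 0 := by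
      rintro rfl
      apply hvc
      simp
    obtain ⟨h4, h5⟩ := ndOn_pln_of (c := c) hF hc (v := v) (by
      intro a b e1 e2
      rw [hvv v, he] at e1
      rw [hvv v] at e2
      constructor
      · have : a * B v (c v) = 0 := by linear_combination e2
        exact (mul_eq_zero.1 this).resolve_right hvc
      · have : b * B v (c v) = 0 := by linear_combination -e1
        exact (mul_eq_zero.1 this).resolve_right hvc)
    exact ⟨pln c v, hle v hv, pln_inv hτ v, h4, h5 hv0⟩

include hc hτ in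
/-- the element of order four -/
theorem exists_j {μ : F} (hμ : μ * μ = 4 - τ ^ 2) (hμ0 : μ ≠ 0) :
    ∃ j : V ≃ₗ[F] V, j ∈ CC B c ∧ j * j = sg F V ∧ ∀ x ∈ CC B c, x * j = j * x := by
  have hs2 : ∀ x, c (c x) + c.symm (c.symm x) = (τ ^ 2 - 2) • x := by
    intro x
    have h1 : c.symm (c.symm x) = τ • c.symm x - x := by
      have h := hτ (c.symm x)
      rw [LinearEquiv.apply_symm_apply] at h
      rw [← h]
      abel
    rw [sq_apply hτ, h1]
    have h2 : τ • c x + τ • c.symm x = τ • (τ • x) := by rw [← smul_add, hτ]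
    calc τ • c x - x + (τ • c.symm x - x) = (τ • c x + τ • c.symm x) - (2 : F) • x := by rw [two_smul]; abel
      _ = (τ ^ 2 - 2) • x := by rw [h2]; module
  let D : V →ₗ[F] V := (c : V →ₗ[F] V) - (c.symm : V →ₗ[F] V)
  have hD : ∀ x, D x = c x - c.symm x := fun x => rfl
  have hDD : ∀ x, D (D x) = -((μ * μ) • x) := by
    intro x
    rw [hD, hD, map_sub, map_sub, LinearEquiv.apply_symm_apply, LinearEquiv.symm_apply_apply, hμ]
    calc c (c x) - x - (x - c.symm (c.symm x)) = (c (c x) + c.symm (c.symm x)) - (2 : F) • x := by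
          rw [two_smul]; abel
      _ = -((4 - τ ^ 2) • x) := by rw [hs2]; module
  have hinv : ∀ x, (μ⁻¹ • D) ((-μ⁻¹) • D x) = x := by
    intro x
    rw [LinearMap.smul_apply, map_smul, hDD, smul_smul, smul_neg, smul_smul]
    have : μ⁻¹ * -μ⁻¹ * (μ * μ) = -1 := by field_simp
    rw [this]
    module
  have hinv' : ∀ x, (-μ⁻¹) • D ((μ⁻¹ • D) x) = x := by
    intro x
    rw [LinearMap.smul_apply, map_smul, hDD, smul_smul, smul_neg, smul_smul]
    have : -μ⁻¹ * μ⁻¹ * (μ * μ) = -1 := by field_simp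
    rw [this]
    module
  let j : V ≃ₗ[F] V := LinearEquiv.ofLinearMap (μ⁻¹ • D) ((-μ⁻¹) • D) (by ext x; exact hinv x) (by ext x; exact hinv' x)
  have hj : ∀ x, j x = μ⁻¹ • (c x - c.symm x) := fun x => rfl
  refine ⟨j, mem_CC.2 ⟨?_, ?_⟩, ?_, ?_⟩
  · intro x y
    rw [hj, hj, map_smul, map_smul, LinearMap.smul_apply]
    have e1 : B (c x - c.symm x) (c y - c.symm y) = (μ * μ) * B x y := by
      have f1 : B (c x) (c.symm y) = B (c (c x)) y := by
        rw [← hc (c x) (c.symm y), LinearEquiv.apply_symm_apply]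
      have f2 : B (c.symm x) (c y) = B (c.symm (c.symm x)) y := (isom_symm_left hc _ _).symm
      have f3 : B (c (c x)) y + B (c.symm (c.symm x)) y = (τ ^ 2 - 2) * B x y := by
        rw [← LinearMap.add_apply, ← map_add, hs2, map_smul, LinearMap.smul_apply, smul_eq_mul]
      simp only [map_sub, LinearMap.sub_apply]
      rw [hc x y, isom_symm hc x y, f1, f2, hμ]
      linear_combination -f3
    rw [e1, smul_eq_mul, smul_eq_mul]
    field_simp
  · ext x
    show j (c x) = c (j x)
    rw [hj, hj, map_smul, map_sub, LinearEquiv.symm_apply_apply, LinearEquiv.apply_symm_apply]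
  · ext x
    show j (j x) = -x
    have : j (j x) = μ⁻¹ • D (μ⁻¹ • D x) := rfl
    rw [this, map_smul, hDD, smul_neg, smul_neg, smul_smul, smul_smul]
    have h5 : μ⁻¹ * μ⁻¹ * (μ * μ) = 1 := by field_simp
    rw [h5, one_smul]
  · intro g hg
    obtain ⟨-, hgc⟩ := mem_CC.1 hg
    have h1 : ∀ x, g (c x) = c (g x) := fun x => congrArg (fun f : V ≃ₗ[F] V => f x) hgc
    have h2 : ∀ x, g (c.symm x) = c.symm (g x) := by
      intro x
      rw [← LinearEquiv.symm_apply_apply c (g (c.symm x)), ← h1, LinearEquiv.apply_symm_apply]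
    ext x
    show g (j x) = j (g x)
    rw [hj, hj, map_smul, map_sub, h1, h2]

end

/-- **FR-SEM2.** -/
theorem red_of_scalar [Finite V] [FiniteDimensional F V] {B : V →ₗ[F] V →ₗ[F] F} {ε : F} (hF : Fm B ε)
    {c : V ≃ₗ[F] V} (hc : c ∈ Isom B) {τ : F} (hτ : ∀ x, c x + c.symm x = τ • x) (h2 : τ ≠ 2) (h2' : τ ≠ -2)
    {P : Subgroup (V ≃ₗ[F] V)} (hP : P ≤ Isom B) (hP2 : IsPGroup 2 P)
    (hact : ∀ g ∈ P, g * c * g⁻¹ = c ∨ g * c * g⁻¹ = c⁻¹) (hn : 3 ≤ finrank F V) :
    Red B (Subgroup.closure {c} ⊔ P) ∨ (finrank F V = 4 ∧ ¬ IsSquare (4 - τ ^ 2)) := by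
  have htop : NdOn B (⊤ : Submodule F V) := fun x _ h => hF.nondeg x fun y => h y Submodule.mem_top
  have hne : (⊤ : Submodule F V) ≠ ⊥ := by
    intro h
    have h1 := finrank_top F V
    rw [h, finrank_bot] at h1
    omega
  obtain ⟨U₁, -, hc₁, hn₁, hf₁⟩ := exists_plane hF hc hτ h2 h2' htop (fun x _ => Submodule.mem_top) hne
  have hco := isCompl_perp hF hn₁
  have hsum := Submodule.finrank_add_eq_of_isCompl hco
  have hperp : perp B U₁ ≠ ⊥ := by
    intro h
    rw [h, finrank_bot] at hsum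
    omega
  obtain ⟨U₂, hle, hc₂, hn₂, hf₂⟩ := exists_plane hF hc hτ h2 h2' (ndOn_perp hF hn₁) (perp_inv hc hc₁) hperp
  have hf3 := Submodule.finrank_mono hle
  have hb₁ : U₁ ≠ ⊥ := by
    rintro rfl
    rw [finrank_bot] at hf₁
    omega
  have hb₂ : U₂ ≠ ⊥ := by
    rintro rfl
    rw [finrank_bot] at hf₂
    omega
  by_cases h4 : finrank F V = 4
  · by_cases hsq : IsSquare (4 - τ ^ 2)
    · left
      obtain ⟨μ, hμ⟩ := hsq
      have hμ0 : μ ≠ 0 := by
        rintro rfl
        rw [mul_zero] at hμ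
        have h5 : (2 - τ) * (2 + τ) = 0 := by linear_combination hμ
        rcases mul_eq_zero.1 h5 with h6 | h6
        · exact h2 (sub_eq_zero.1 h6).symm
        · exact h2' (by linear_combination h6)
      obtain ⟨j, hj, hjj, hjc⟩ := exists_j hc hτ hμ.symm hμ0
      refine red_of_two hF hc hP hP2 hact hc₁ hn₁ hb₁ ?_ hj hjj hjc
      rintro rfl
      rw [finrank_top] at hf₁
      omega
    · exact Or.inr ⟨h4, hsq⟩
  · left
    refine red_of_three hF hc hP hP2 hact hc₁ hc₂ hn₁ hn₂ hle hb₁ hb₂ ?_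
    intro ht
    have h5 := Submodule.finrank_add_le_finrank_add_finrank U₁ U₂
    rw [ht, finrank_top, hf₁, hf₂] at h5
    rw [hf₁] at hsum
    rw [hf₂] at hf3
    omega

/-- the exceptional case in terms of the eigenvalues -/
theorem split_cases [Finite F] (h2 : (2 : F) ≠ 0) {τ : F} (hτ : τ ≠ 2) (hτ' : τ ≠ -2)
    (h : ¬ IsSquare (4 - τ ^ 2)) :
    ((∃ a : F, a * a + 1 = τ * a) ∧ Nat.card F % 4 = 3) ∨ ((¬ ∃ a : F, a * a + 1 = τ * a) ∧ Nat.card F % 4 = 1) := by
  classical
  have := Fintype.ofFinite F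
  have hchar : ringChar F ≠ 2 := by
    intro h0
    apply h2
    have h1 : ((ringChar F : ℕ) : F) = 0 := ringChar.Nat.cast_ringChar
    rw [h0] at h1
    exact_mod_cast h1
  have hodd : Fintype.card F % 2 = 1 := FiniteField.odd_card_of_char_ne_two hchar
  have hsplit : (∃ a : F, a * a + 1 = τ * a) ↔ IsSquare (τ ^ 2 - 4) := by
    constructor
    · rintro ⟨a, ha⟩
      exact ⟨2 * a - τ, by linear_combination -4 * ha⟩
    · rintro ⟨r, hr⟩
      refine ⟨(τ + r) / 2, ?_⟩
      field_simp
      linear_combination -hr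
  have h0 : τ ^ 2 - 4 ≠ 0 := by
    intro h0
    have h5 : (2 - τ) * (2 + τ) = 0 := by linear_combination -h0
    rcases mul_eq_zero.1 h5 with h6 | h6
    · exact hτ (sub_eq_zero.1 h6).symm
    · exact hτ' (by linear_combination h6)
  have hneg : 4 - τ ^ 2 = -1 * (τ ^ 2 - 4) := by ring
  rw [Nat.card_eq_fintype_card, hsplit]
  have hm := FiniteField.isSquare_neg_one_iff (F := F)
  by_cases hq : Fintype.card F % 4 = 3
  · left
    refine ⟨?_, hq⟩
    by_contra hns
    apply h
    have h3 : ¬ IsSquare (-1 : F) := fun h4 => hm.1 h4 hq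
    rw [hneg]
    -- a product of two nonsquares is a square
    have e1 := (quadraticChar_neg_one_iff_not_isSquare (F := F)).2 h3
    have e2 := (quadraticChar_neg_one_iff_not_isSquare (F := F)).2 hns
    have e3 : quadraticChar F (-1 * (τ ^ 2 - 4)) = 1 := by rw [map_mul, e1, e2]; norm_num
    exact (quadraticChar_one_iff_isSquare (mul_ne_zero (by simp) h0)).1 e3
  · right
    refine ⟨fun hs => h ?_, by omega⟩
    rw [hneg]
    exact (hm.2 hq).mul hs

/-- FR-SEM2 with the exceptional case in terms of the eigenvalues of `c` -/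
theorem red_or_four [Finite F] [FiniteDimensional F V] {B : V →ₗ[F] V →ₗ[F] F} {ε : F} (hF : Fm B ε)
    {c : V ≃ₗ[F] V} {P : Subgroup (V ≃ₗ[F] V)} {τ : F} (hc : c ∈ Isom B) (hP : P ≤ Isom B) (hP2 : IsPGroup 2 P)
    (hact : ∀ g ∈ P, g * c * g⁻¹ = c ∨ g * c * g⁻¹ = c⁻¹) (h2 : τ ≠ 2) (h2' : τ ≠ -2)
    (hτ : ∀ v, c v + c⁻¹ v = τ • v) (hn : 3 ≤ finrank F V) :
    Red B (Subgroup.closure {c} ⊔ P) ∨ (finrank F V = 4 ∧ (((∃ a : F, a * a + 1 = τ * a) ∧ Nat.card F % 4 = 3) ∨
      ((¬ ∃ a : F, a * a + 1 = τ * a) ∧ Nat.card F % 4 = 1))) := by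
  have : Finite V := Module.finite_of_finite F
  rcases red_of_scalar hF hc (τ := τ) (fun x => hτ x) h2 h2' hP hP2 hact hn with h | ⟨h4, h⟩
  · exact Or.inl h
  · exact Or.inr ⟨h4, split_cases hF.two h2 h2' h⟩

/-- the form for `Mx` -/
theorem sem2 {F V : Type u} [Field F] [Finite F] [AddCommGroup V] [Module F V] [FiniteDimensional F V]
    {B : V →ₗ[F] V →ₗ[F] F} {ε : F} (hF : Fm B ε)
    {c : V ≃ₗ[F] V} {P : Subgroup (V ≃ₗ[F] V)} {τ : F} (hc : c ∈ Isom B) (hP : Mx B c P) (h2 : τ ≠ 2) (h2' : τ ≠ -2)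
    (hτ : ∀ v, c v + c⁻¹ v = τ • v) (hn : 3 ≤ finrank F V) :
    Red B (Subgroup.closure {c} ⊔ P) ∨ (finrank F V = 4 ∧ (((∃ a : F, a * a + 1 = τ * a) ∧ Nat.card F % 4 = 3) ∨
      ((¬ ∃ a : F, a * a + 1 = τ * a) ∧ Nat.card F % 4 = 1))) :=
  red_or_four hF hc hP.le hP.two hP.act h2 h2' hτ hn

end Cfsg.Agent.H137.FR
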